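import Groth.Agent.RpushCop.Exact
import Groth.Agent.FinEtTrace5.Main
import Groth.Agent.AcycFin.LocalRange
import Groth.Agent.EtAcycLib.Compose
import Groth.Agent.EtLC12.RpushTorsion
import Groth.Agent.GalCd5.Basic
import Groth.Agent.SiteBase.LerayTop
import Groth.Agent.H9Transfer.Kill

/-!
# Uniquely divisible sheaves over fields, and direct images of acyclic sheaves
-/

set_option autoImplicit false
set_option linter.unusedSectionVars false
set_option linter.style.haveILetI false
set_option backward.isDefEq.respectTransparency false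
set_option backward.isDefEq.respectTransparency.types false

universe u

open CategoryTheory CategoryTheory.Limits AlgebraicGeometry Opposite Abelian

noncomputable section

namespace Groth.Agent.QSheaf5

open EtFound RpushCop

attribute [local instance] EtFound.pull_preservesFiniteLimits

variable {X Y : Scheme.{u}}

/-- A uniquely divisible sheaf. -/
def IsQ (F : EtCoh.Ab X) : Prop := ∀ m : ℕ, 0 < m → IsIso (m • 𝟙 F)

theorem isQ_map (T : EtCoh.Ab X ⥤ EtCoh.Ab Y) [T.Additive] {F : EtCoh.Ab X} (h : IsQ F) : IsQ (T.obj F) := by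
  intro m hm
  haveI := h m hm
  have e : m • 𝟙 (T.obj F) = T.map (m • 𝟙 F) := by
    rw [Functor.map_nsmul]
    exact congrArg (m • ·) (T.map_id F).symm
  rw [e]
  infer_instance

theorem eq_zero_of_nsmul {F : EtCoh.Ab X} (h : IsQ F) {d n : ℕ} (hd : 0 < d) (x : EtCoh.H X F n) (hx : d • x = 0) :
    x = 0 := by
  haveI := h d hd
  have h1 : x.comp (Ext.mk₀ (d • 𝟙 F)) (add_zero n) = 0 := (H9Transfer.comp_nsmul_id x d).trans hx
  refine ((EtAcycLib.bijective_comp_mk₀ (A := EtCoh.const X ℤ) (n := n) (asIso (d • 𝟙 F))).1 ?_)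
  simpa using h1

section Rpush

variable (f : X ⟶ Y) [QuasiCompact f] [QuasiSeparated f]

theorem acyc_X₃ (S : ShortComplex (EtCoh.Ab X)) (hS : S.ShortExact) (h1 : Acyc S.X₁) (h2 : Acyc S.X₂) : Acyc S.X₃ := by
  intro W hW q
  haveI : AlgebraicGeometry.Etale W.hom := W.prop
  haveI := EtFound.jCont W.hom
  let E : ShortComplex (EtCoh.Ab W.left) := S.map (EtCoh.pull W.hom)
  have hE : E.ShortExact := EtLC12.AffineLocalAcyclic.shortExact_pull W.hom hS
  refine subsingleton_of_forall_eq 0 fun z => ?_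
  let z' : EtCoh.H W.left E.X₃ (q + 1) := z
  show z' = 0
  haveI : Subsingleton (EtCoh.H W.left E.X₁ (q + 1 + 1)) := h1 W hW (q + 1)
  haveI : Subsingleton (EtCoh.H W.left E.X₂ (q + 1)) := h2 W hW q
  obtain ⟨w, hw⟩ := Ext.covariant_sequence_exact₃ _ hE z' rfl (Subsingleton.elim _ _)
  rw [← hw, Subsingleton.elim w 0]
  simp

theorem sections_surjective (S : ShortComplex (EtCoh.Ab X)) (hS : S.ShortExact) (h1 : Acyc S.X₁) (W : X.Etale)
    (hW : IsQcqsObj W) : Function.Surjective (S.g.hom.app (op W)) := by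
  intro z
  haveI : AlgebraicGeometry.Etale W.hom := W.prop
  haveI := EtFound.jCont W.hom
  let E : ShortComplex (EtCoh.Ab W.left) := S.map (EtCoh.pull W.hom)
  have hE : E.ShortExact := EtLC12.AffineLocalAcyclic.shortExact_pull W.hom hS
  haveI : Subsingleton (EtCoh.H W.left E.X₁ 1) := h1 W hW 0
  obtain ⟨y, hy⟩ := gsec_surjective hE ((EtAcycLib.UnitRpush.secEquiv S.X₃ W).inv z)
  refine ⟨(EtAcycLib.UnitRpush.secEquiv S.X₂ W).hom y, ?_⟩
  refine (ConcreteCategory.congr_hom (EtAcycLib.UnitRpush.secEquiv_natural S.g W) y).symm.trans ?_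
  refine ((ConcreteCategory.comp_apply _ _ _).trans (congrArg (fun t => (EtAcycLib.UnitRpush.secEquiv S.X₃ W).hom t) hy)).trans ?_
  exact ConcreteCategory.congr_hom (EtAcycLib.UnitRpush.secEquiv S.X₃ W).inv_hom_id z

theorem epi_push_map (S : ShortComplex (EtCoh.Ab X)) (hS : S.ShortExact) (h1 : Acyc S.X₁) :
    Epi ((EtCoh.push f).map S.g) := by
  refine (Sheaf.isLocallySurjective_iff_epi' AddCommGrpCat.{u + 1} _).1 ⟨fun {V} s => ?_⟩
  refine (mem_topology_iff _).2 fun v => ?_
  obtain ⟨W, g, w, hW, hw⟩ := EtLC12.RpushTorsion.exists_affine_nhd v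
  haveI := hW
  obtain ⟨t, ht⟩ := sections_surjective S hS h1 _ (isQcqsObj_bc f W (isQcqsObj_of_isAffine W))
    ((((EtCoh.push f).obj S.X₃).obj.map g.op).hom s)
  exact ⟨W, g, w, ⟨t, ht⟩, hw⟩

/-- Higher direct images of acyclic sheaves vanish. -/
theorem isZero_Rpush_of_acyc (G : EtCoh.Ab X) (hG : Acyc G) (q : ℕ) : IsZero ((EtCoh.Rpush f (q + 1)).obj G) := by
  haveI : (EtCoh.push f).IsRightAdjoint := (EtCoh.pullPushAdj f).isRightAdjoint
  exact SitePullUnit.isZero_rightDerived_of_class (EtCoh.push f) Acyc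
    (fun S hS h1 hI => acyc_X₃ S hS h1 (haveI := hI; acyc_of_injective S.X₂))
    (fun S hS h1 _ => epi_push_map f S hS h1) hG q

theorem subsingleton_H_push (G : EtCoh.Ab X) (hG : Acyc G) (n : ℕ) (h : Subsingleton (EtCoh.H X G n)) :
    Subsingleton (EtCoh.H Y ((EtCoh.push f).obj G) n) :=
  haveI := h
  (EtAcycLib.UnitRpush.HofPush_bijective f n G fun j _ => isZero_Rpush_of_acyc f G hG j).1.subsingleton

end Rpush

section Field

variable (K : Type u) [Field K]

theorem isFinite_of_etale {T : Scheme.{u}} (k : T ⟶ Spec (CommRingCat.of K)) [AlgebraicGeometry.Etale k]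
    [QuasiCompact k] : IsFinite k := by
  haveI : IsLocallyArtinian (Spec (CommRingCat.of K)) := inferInstance
  exact IsFinite.of_locallyQuasiFinite k

theorem isFinite_of_isQcqsObj (W : (Spec (CommRingCat.of K)).Etale) (hW : IsQcqsObj W) : IsFinite W.hom := by
  have h : ∀ {T : Scheme.{u}} (k : T ⟶ Spec (CommRingCat.of K)), AlgebraicGeometry.Etale k → CompactSpace T → IsFinite k :=
    fun k _ _ => haveI : QuasiCompact k := quasiCompact_of_compactSpace k; isFinite_of_etale K k
  exact h W.hom W.prop hW.1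

/-- The degree of a finite étale morphism kills the classes which die after pullback. -/
theorem eq_zero_of_pull {T : Scheme.{u}} (π : T ⟶ Spec (CommRingCat.of K)) [IsFinite π] [AlgebraicGeometry.Etale π]
    [Surjective π] (G : EtCoh.Ab (Spec (CommRingCat.of K))) (hG : IsQ G) (n : ℕ) (x : EtCoh.H _ G n)
    (hx : EtCore.Hpull π G n x = 0) : x = 0 := by
  haveI := EtFound.jCont π
  have hd : ∀ y, π.finrank y = π.finrank default := fun y => congrArg _ (Subsingleton.elim _ _)
  have hpos : 1 ≤ π.finrank := (Scheme.Hom.one_le_finrank_iff_surjective π).2 inferInstance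
  refine eq_zero_of_nsmul hG (d := π.finrank default) (hpos _) x ?_
  have h1 : x.comp (Ext.mk₀ ((EtCoh.pullPushAdj π).unit.app G)) (add_zero n) = 0 := by
    refine (EtAcycLib.UnitRpush.HofPush_bijective π n _ fun j _ => ?_).1 ?_
    · haveI := EtFound.push_preservesFiniteColimits π
      haveI := EtFound.push_preservesFiniteLimits π
      haveI : (EtCoh.push π).Additive := (EtCoh.pullPushAdj π).right_adjoint_additive
      exact Groth.Agent.LerayDegen.isZero_rightDerived_of_exact (EtCoh.push π) _ j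
    · rw [← EtAcycLib.UnitRpush.Hpull_eq_HofPush, hx, map_zero]
  have h2 := congrArg (fun y => Ext.comp y (Ext.mk₀ ((FinEtTrace5.trAdj π).counit.app G)) (add_zero n)) h1
  simp only [Ext.comp_assoc_of_third_deg_zero, Ext.mk₀_comp_mk₀, Ext.zero_comp,
    FinEtTrace5.trace_comp π G _ hd] at h2
  exact (H9Transfer.comp_nsmul_id x _).symm.trans h2

/-- Cohomology of uniquely divisible sheaves over a field vanishes. -/
theorem subsingleton_H_field (G : EtCoh.Ab (Spec (CommRingCat.of K))) (hG : IsQ G) (q : ℕ) :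
    Subsingleton (EtCoh.H (Spec (CommRingCat.of K)) G (q + 1)) := by
  refine subsingleton_of_forall_eq 0 fun x => ?_
  obtain ⟨V, ⟨v, hv⟩, hx⟩ := AcycFin.exists_etale_kill q G x default
  obtain ⟨W, g, w, hW, hw⟩ := EtLC12.RpushTorsion.exists_affine_nhd v
  haveI := hW
  haveI : AlgebraicGeometry.Etale W.hom := W.prop
  haveI := isFinite_of_isQcqsObj K W (isQcqsObj_of_isAffine W)
  haveI : Surjective W.hom := ⟨fun y => ⟨w, (PrimeSpectrum.instUnique (R := K)).instSubsingleton.elim _ y⟩⟩
  refine eq_zero_of_pull K W.hom G hG (q + 1) x ?_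
  exact (EtAcycLib.Hpull_comp g.left V.hom W.hom (MorphismProperty.Over.w g) G (q + 1) x).symm.trans
    ((congrArg (fun t => Ext.comp t _ (add_zero (q + 1)))
      ((congrArg (fun t => EtCore.Hpull g.left _ (q + 1) t) hx).trans (map_zero _))).trans (Ext.zero_comp _ _ _ _ _))

/-- Uniquely divisible sheaves over a field are acyclic. -/
theorem acyc_field (G : EtCoh.Ab (Spec (CommRingCat.of K))) (hG : IsQ G) : Acyc G := by
  intro W hW q
  haveI : AlgebraicGeometry.Etale W.hom := W.prop
  haveI := isFinite_of_isQcqsObj K W hW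
  haveI := (EtCoh.pullPushAdj W.hom).left_adjoint_additive
  haveI : (EtCoh.push W.hom).Additive := (EtCoh.pullPushAdj W.hom).right_adjoint_additive
  exact (GalCd5.subsingleton_H_push_iff W.hom _ (q + 1)).1
    (subsingleton_H_field K _ (isQ_map (EtCoh.push W.hom) (isQ_map (EtCoh.pull W.hom) hG)) q)

end Field

end Groth.Agent.QSheaf5
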