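import Groth.Agent.QSheaf5.Field
import Groth.Agent.EtFound.LiftEtale
import Groth.Agent.EtFound.PushImm
import Mathlib.RingTheory.Localization.Integral
import Mathlib.RingTheory.Localization.FractionRing

/-!
# The inclusion of a generic point
-/

set_option autoImplicit false
set_option linter.unusedSectionVars false
set_option linter.style.haveILetI false
set_option backward.isDefEq.respectTransparency false
set_option backward.isDefEq.respectTransparency.types false

universe u

open CategoryTheory CategoryTheory.Limits AlgebraicGeometry Opposite Polynomial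
open scoped TensorProduct

noncomputable section

namespace Groth.Agent.QSheaf5

/-- Standard étale algebras over a fraction field come from a standard étale algebra over the domain. -/
theorem exists_standardEtale_frac {A K C : Type u} [CommRing A] [IsDomain A] [Field K] [Algebra A K]
    [IsFractionRing A K] [CommRing C] [Algebra K C] [Algebra.IsStandardEtale K C] :
    ∃ (A' : Type u) (_ : CommRing A') (_ : Algebra A A') (_ : Algebra A' K) (b : A)
      (_ : IsLocalization.Away b A') (_ : IsScalarTower A A' K) (P : StandardEtalePair A'),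
      Nonempty (K ⊗[A'] P.Ring ≃ₐ[K] C) := by
  obtain ⟨Q⟩ : Nonempty (StandardEtalePresentation K C) := inferInstance
  obtain ⟨b, hb⟩ := IsLocalization.integerNormalization_map_to_map (nonZeroDivisors A) Q.f
  obtain ⟨c, hc⟩ := IsLocalization.integerNormalization_map_to_map (nonZeroDivisors A) Q.g
  let e : A := (b : A) * c
  have he : e ≠ 0 := mul_ne_zero (nonZeroDivisors.ne_zero b.2) (nonZeroDivisors.ne_zero c.2)
  have heu : IsUnit (algebraMap A K e) :=
    (map_ne_zero_iff _ (IsFractionRing.injective A K)).2 he |>.isUnit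
  let A' := Localization.Away e
  letI : Algebra A' K := (IsLocalization.Away.lift (S := A') e heu).toAlgebra
  have hlift : ∀ a, algebraMap A' K (algebraMap A A' a) = algebraMap A K a := fun a =>
    IsLocalization.Away.lift_eq (S := A') e heu a
  haveI : IsScalarTower A A' K := IsScalarTower.of_algebraMap_eq fun a => (hlift a).symm
  have hle : Submonoid.powers e ≤ nonZeroDivisors A :=
    Submonoid.powers_le.2 (mem_nonZeroDivisors_of_ne_zero he)
  have hinj : Function.Injective (algebraMap A' K) := by
    haveI : IsDomain A' := IsLocalization.isDomain_of_le_nonZeroDivisors _ hle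
    exact (IsLocalization.injective_iff_map_algebraMap_eq (M := Submonoid.powers e) (S := A') _).2
      fun x y => ⟨fun h => congrArg _ h, fun h => congrArg _ (IsFractionRing.injective A K ((hlift x).symm.trans (h.trans (hlift y))))⟩
  obtain ⟨v, hv⟩ := IsLocalization.Away.algebraMap_isUnit (S := A') e
  have key : ∀ (p : K[X]) (d d' : A), d * d' = e →
      ∀ p₀ : A[X], p₀.map (algebraMap A K) = d • p → ∃ q : A'[X], q.map (algebraMap A' K) = p := by
    intro p d d' hd p₀ hp
    refine ⟨Polynomial.C ((↑v⁻¹ : A') * algebraMap A A' d') * p₀.map (algebraMap A A'), ?_⟩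
    rw [Polynomial.map_mul, map_C, Polynomial.map_map, ← IsScalarTower.algebraMap_eq, hp,
      Algebra.smul_def, ← mul_assoc]
    show Polynomial.C _ * Polynomial.C (algebraMap A K d) * p = p
    rw [← C_mul, show algebraMap A' K ((↑v⁻¹ : A') * algebraMap A A' d') * algebraMap A K d = 1 from ?_, C_1, one_mul]
    rw [← hlift d, ← map_mul, mul_assoc, ← map_mul, mul_comm d' d, hd, ← hv, Units.inv_mul, map_one]
  obtain ⟨f, hf⟩ := key Q.f b c rfl _ hb
  obtain ⟨g, hg⟩ := key Q.g c b (mul_comm _ _) _ hc
  have hfm : f.Monic := monic_of_injective hinj (by rw [hf]; exact Q.monic_f)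
  let P : StandardEtalePair A' :=
    ⟨f, hfm, g * derivative f, g, 0, 1, by rw [mul_zero, add_zero, pow_one]; ring⟩
  let R' : StandardEtalePair K := P.map (algebraMap A' K)
  have hfR : R'.f = Q.f := hf
  have hgR : R'.g = Q.g * derivative Q.f := by
    change (g * derivative f).map _ = _
    rw [Polynomial.map_mul, hg, ← derivative_map, hf]
  have hQ : R'.HasMap Q.x := ⟨by rw [hfR]; exact Q.hasMap.1, by
    rw [hgR, map_mul]; exact Q.hasMap.2.mul Q.hasMap.isUnit_derivative_f⟩
  have hR : Q.P.HasMap R'.X := by
    have h := R'.hasMap_X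
    rw [StandardEtalePair.HasMap, hfR, hgR, map_mul, IsUnit.mul_iff] at h
    exact ⟨h.1, h.2.1⟩
  let eC : R'.Ring ≃ₐ[K] C := AlgEquiv.ofAlgHom (R'.lift Q.x hQ)
    ((Q.P.lift R'.X hR).comp Q.equivRing.toAlgHom)
    (Q.hom_ext (by simp)) (R'.hom_ext (by simp))
  let Pp : StandardEtalePresentation A' P.Ring :=
    ⟨P, P.X, P.hasMap_X, by simpa [StandardEtalePair.lift_X_left] using Function.bijective_id⟩
  exact ⟨A', inferInstance, inferInstance, inferInstance, e, inferInstance, inferInstance, P,
    ⟨(Pp.baseChange (T := K)).equivRing.trans eC⟩⟩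

variable {X : Scheme.{u}} {A : Type u} [CommRing A] [IsDomain A] (j : Spec (CommRingCat.of A) ⟶ X)
  [IsOpenImmersion j] (K : Type u) [Field K] [Algebra A K] [IsFractionRing A K]

/-- The generic point of an integral affine open. -/
abbrev genPt : Spec (CommRingCat.of K) ⟶ X := Spec.map (CommRingCat.ofHom (algebraMap A K)) ≫ j

theorem liftable_genPt : EtFound.Liftable (genPt j K) := by
  intro U x
  haveI : AlgebraicGeometry.Etale U.hom := U.prop
  obtain ⟨C0, w, hw, hx, -⟩ := Scheme.exists_affine_mem_range_and_range_subset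
    (x := x) (U := (⊤ : U.left.Opens)) (by simp)
  obtain ⟨c, hc⟩ := hx
  have ho1 : AlgebraicGeometry.Etale (w ≫ U.hom) := inferInstance
  obtain ⟨φ, hφ⟩ := Spec.map_surjective (w ≫ U.hom : Spec C0 ⟶ Spec (CommRingCat.of K))
  algebraize [φ.hom]
  have : Algebra.Etale K C0 := by
    have h : AlgebraicGeometry.Etale (Spec.map φ) := by rw [hφ]; exact ho1
    exact RingHom.etale_algebraMap.1 ((HasRingHomProperty.Spec_iff (P := @AlgebraicGeometry.Etale)).mp h)
  obtain ⟨g, hgc, hC⟩ := Algebra.IsEtaleAt.exists_isStandardEtale (R := K) c.asIdeal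
  obtain ⟨A', _, _, _, b, _, _, P, ⟨eC⟩⟩ :=
    exists_standardEtale_frac (A := A) (K := K) (C := Localization.Away g)
  let jb : Spec (CommRingCat.of A') ⟶ X := Spec.map (CommRingCat.ofHom (algebraMap A A')) ≫ j
  haveI : IsOpenImmersion (Spec.map (CommRingCat.ofHom (algebraMap A A'))) := IsOpenImmersion.of_isLocalization b
  let q : Spec (CommRingCat.of K) ⟶ Spec (CommRingCat.of A') := Spec.map (CommRingCat.ofHom (algebraMap A' K))
  have hq : genPt j K = q ≫ jb := by
    simp only [q, jb, ← Category.assoc, ← Spec.map_comp]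
    rw [← CommRingCat.ofHom_comp, ← IsScalarTower.algebraMap_eq]
  let B : CommRingCat.{u} := CommRingCat.of P.Ring
  let bm : Spec B ⟶ Spec (CommRingCat.of A') := Spec.map (CommRingCat.ofHom (algebraMap A' P.Ring))
  have hb : AlgebraicGeometry.Etale bm := by
    rw [HasRingHomProperty.Spec_iff (P := @AlgebraicGeometry.Etale)]
    exact RingHom.etale_algebraMap.2 inferInstance
  have hVet : AlgebraicGeometry.Etale (bm ≫ jb) := inferInstance
  let V : X.Etale := Scheme.Etale.mk (bm ≫ jb)
  let L : CommRingCat.{u} := CommRingCat.of (Localization.Away g)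
  let π : Spec L ⟶ Spec (CommRingCat.of K) := Spec.map (CommRingCat.ofHom (algebraMap K (Localization.Away g)))
  let m : Spec L ⟶ Spec B := Spec.map (CommRingCat.ofHom ((eC.toRingEquiv.toRingHom).comp
    (Algebra.TensorProduct.includeRight (R := A') (A := K) (B := P.Ring)).toRingHom))
  let ε : Spec L ≅ Spec (CommRingCat.of (K ⊗[A'] P.Ring)) :=
    Scheme.Spec.mapIso (eC.toRingEquiv.toCommRingCatIso).op
  have sq2 : IsPullback π m q bm := by
    refine (IsPullback.of_hasPullback q bm).of_iso ((pullbackSpecIso A' K P.Ring) ≪≫ ε.symm)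
      (Iso.refl _) (Iso.refl _) (Iso.refl _) ?_ ?_ (by simp) (by simp)
    · have e1 : ε.hom ≫ Spec.map (CommRingCat.ofHom (algebraMap K (K ⊗[A'] P.Ring))) = π := by
        change Spec.map _ ≫ Spec.map _ = _
        rw [← Spec.map_comp]
        refine congrArg Spec.map ?_
        ext r
        exact eC.commutes r
      rw [← e1]
      change _ ≫ 𝟙 _ = ((pullbackSpecIso A' K P.Ring).hom ≫ ε.inv) ≫ ε.hom ≫ _
      rw [Category.comp_id, Category.assoc, Iso.inv_hom_id_assoc]
      exact (pullbackSpecIso_hom_fst' _ _ _).symm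
    · have e2 : ε.hom ≫ Spec.map (CommRingCat.ofHom
          (Algebra.TensorProduct.includeRight (R := A') (A := K) (B := P.Ring)).toRingHom) = m := by
        change Spec.map _ ≫ Spec.map _ = _
        rw [← Spec.map_comp]
        rfl
      rw [← e2]
      change _ ≫ 𝟙 _ = ((pullbackSpecIso A' K P.Ring).hom ≫ ε.inv) ≫ ε.hom ≫ _
      rw [Category.comp_id, Category.assoc, Iso.inv_hom_id_assoc]
      exact (pullbackSpecIso_hom_snd _ _ _).symm
  have hjb : IsPullback (𝟙 (Spec (CommRingCat.of K))) q (genPt j K) jb := by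
    rw [hq]
    exact IsPullback.of_horiz_isIso_mono ⟨by simp⟩
  have sq3 : IsPullback m π (bm ≫ jb) (genPt j K) := by
    have := sq2.flip.paste_vert hjb.flip
    simpa using this
  let o : Spec L ⟶ U.left := Spec.map (CommRingCat.ofHom (algebraMap C0 (Localization.Away g))) ≫ w
  have hof : o ≫ U.hom = π := by
    simp only [o, Category.assoc]
    rw [← hφ, ← Spec.map_comp]
    refine congrArg Spec.map ?_
    ext r
    exact (IsScalarTower.algebraMap_apply K C0 (Localization.Away g) r).symm
  refine ⟨V, MorphismProperty.Over.homMk (sq3.isoPullback.inv ≫ o) (by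
    rw [Category.assoc, hof]; exact sq3.isoPullback_inv_snd) trivial, ?_⟩
  have hcg : c ∈ Set.range (Spec.map (CommRingCat.ofHom (algebraMap C0 (Localization.Away g)))).base :=
    (PrimeSpectrum.localization_away_comap_range (Localization.Away g) g).ge hgc
  obtain ⟨l, hl⟩ := hcg
  obtain ⟨p', hp'⟩ := sq3.isoPullback.inv.surjective l
  refine ⟨p', (Scheme.Hom.comp_apply _ _ p').trans ((congrArg o.base hp').trans ?_)⟩
  simp only [o, Scheme.Hom.comp_apply]
  exact (congrArg w hl).trans hc

instance isPreimmersion_genPt : IsPreimmersion (genPt j K) := by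
  haveI : IsPreimmersion (Spec.map (CommRingCat.ofHom (algebraMap A K))) :=
    IsPreimmersion.of_isLocalization (nonZeroDivisors A)
  infer_instance

/-- The counit at a generic point is an isomorphism. -/
theorem isIso_counit_genPt (G : EtCoh.Ab (Spec (CommRingCat.of K))) :
    IsIso ((EtCoh.pullPushAdj (genPt j K)).counit.app G) :=
  EtFound.counit_isIso (A := AddCommGrpCat.{u + 1}) (genPt j K) (liftable_genPt j K) G

end Groth.Agent.QSheaf5
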