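import Groth.Agent.QSheaf5.Field
import Groth.Agent.EtLim8.Res
import Groth.Agent.EtFound.PushOutside
import Groth.Agent.EtFound.AbRecollement
import Groth.Agent.EtCdp5.HK
import Groth.Agent.EtCdp5.Main
import Groth.Agent.ProConsLib.Basic
import Groth.Agent.AcycFin.HFColim
import Mathlib.Topology.NoetherianSpace

/-!
# Sheaves vanishing at the generic points
-/

set_option autoImplicit false
set_option linter.unusedSectionVars false
set_option linter.style.haveILetI false
set_option backward.isDefEq.respectTransparency false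
set_option backward.isDefEq.respectTransparency.types false

universe u

open CategoryTheory CategoryTheory.Limits AlgebraicGeometry Opposite Abelian

noncomputable section

namespace Groth.Agent.QSheaf5

open EtFound EtLim8

attribute [local instance] EtFound.pull_preservesFiniteLimits

variable {X : Scheme.{u}}

/-- Stalks at geometric points over the generic points vanish. -/
def ZeroGeneric (G : EtCoh.Ab X) : Prop :=
  ∀ (Ω : Type u) [Field Ω] [IsSepClosed Ω] (ξ : Spec (CommRingCat.of Ω) ⟶ X),
    ξ.base (default : Spec (CommRingCat.of Ω)) ∈ genericPoints X → IsZero ((EtCoh.stalk ξ).obj G)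

theorem mem_nullLocus {G : EtCoh.Ab X} (hG : ZeroGeneric G) (U : X.Etale) (s : G.obj.obj (op U)) (x : U.left)
    (hx : U.hom.base x ∈ genericPoints X) : x ∈ nullLocus G U s := by
  obtain ⟨Ω, _, _, ξ, z, hz⟩ := exists_point_through U x
  have hξ : ξ.base (default : Spec (CommRingCat.of Ω)) = U.hom.base x := by
    rw [← hz (default : Spec (CommRingCat.of Ω))]
    exact (congrArg (fun a : Spec (CommRingCat.of Ω) ⟶ X => a.base (default : Spec (CommRingCat.of Ω)))
      (CategoryTheory.Over.w z)).symm.trans (Scheme.Hom.comp_apply _ _ _)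
  haveI : Subsingleton ((EtCoh.stalk ξ).obj G) :=
    AddCommGrpCat.subsingleton_of_isZero (hG Ω ξ (hξ ▸ hx))
  have h0 : (Scheme.pointSmallEtale ξ).toPresheafFiber U z G.obj s =
      (Scheme.pointSmallEtale ξ).toPresheafFiber U z G.obj 0 :=
    Subsingleton.elim (α := (EtCoh.stalk ξ).obj G) _ _
  obtain ⟨V, h, v, hv, hh⟩ := ((Scheme.pointSmallEtale ξ).toPresheafFiber_eq_iff' U z _ _).1 h0
  refine ⟨V, h, ptOf v, ?_, hh.trans (map_zero _)⟩
  rw [← ptOf_map, hv]
  exact hz _

/-- The opens containing the generic points. -/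
abbrev DenseOpen (X : Scheme.{u}) : Type u := {O : X.Opens // genericPoints X ⊆ (O : Set X)}

theorem noetherianSpace_of_etale [IsNoetherian X] {T : Scheme.{u}} (k : T ⟶ X) [AlgebraicGeometry.Etale k]
    (hc : CompactSpace T) : TopologicalSpace.NoetherianSpace T := by
  haveI : IsLocallyNoetherian T := LocallyOfFiniteType.isLocallyNoetherian k
  haveI : IsNoetherian T := { toIsLocallyNoetherian := ‹_›, toCompactSpace := hc }
  infer_instance

theorem exists_denseOpen [IsNoetherian X] {G : EtCoh.Ab X} (hG : ZeroGeneric G) (U : X.Etale)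
    (hU : IsQcqsObj U) (s : G.obj.obj (op U)) :
    ∃ O : DenseOpen X, ∀ x : U.left, U.hom.base x ∈ O.1 → x ∈ nullLocus G U s := by
  haveI : AlgebraicGeometry.Etale U.hom := U.prop
  haveI hn : TopologicalSpace.NoetherianSpace U.left := noetherianSpace_of_etale (X := X) (T := U.left) U.hom hU.1
  let N : Set U.left := nullLocus G U s
  let g : {x : U.left // x ∉ N} → X := fun x => U.hom.base x.1
  let S : Set X := Set.range g
  haveI : QuasiSober {x : U.left // x ∉ N} :=
    (isOpen_nullLocus G U s).isClosed_compl.isClosedEmbedding_subtypeVal.quasiSober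
  haveI : TopologicalSpace.NoetherianSpace {x : U.left // x ∉ N} := Topology.IsInducing.subtypeVal.noetherianSpace
  refine ⟨⟨⟨(closure S)ᶜ, isClosed_closure.isOpen_compl⟩, fun η hη hc => ?_⟩, fun x hx => ?_⟩
  · obtain ⟨x, hx⟩ := ProConsLib.exists_specializes_of_mem_closure_range (g := g)
      ⟨U.hom.base.hom.continuous.comp continuous_subtype_val,
        fun t _ _ => TopologicalSpace.NoetherianSpace.isCompact _⟩ hc
    refine x.2 (mem_nullLocus hG U s x.1 ?_)
    have e : g x = η := by
      refine hx.antisymm ?_ |>.eq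
      rw [specializes_iff_mem_closure]
      have hirr : IsIrreducible (closure ({g x} : Set X)) := isIrreducible_singleton.closure
      exact (hη.2 hirr (specializes_iff_closure_subset.1 hx)) (subset_closure (Set.mem_singleton _))
    exact (show U.hom.base x.1 = η from e) ▸ hη
  · by_contra h
    exact hx (subset_closure ⟨⟨x, h⟩, rfl⟩)

/-- The sections supported outside an open. -/
abbrev supp (G : EtCoh.Ab X) (O : X.Opens) : EtCoh.Ab X := kernel ((EtCoh.pullPushAdj O.ι).unit.app G)

theorem isZero_pull_supp (G : EtCoh.Ab X) (O : X.Opens) : IsZero ((EtCoh.pull O.ι).obj (supp G O)) := by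
  haveI := (EtCoh.pullPushAdj O.ι).left_adjoint_additive
  let η := (EtCoh.pullPushAdj O.ι).unit.app G
  haveI : IsSplitMono ((EtCoh.pull O.ι).map η) :=
    IsSplitMono.mk' ⟨(EtCoh.pullPushAdj O.ι).counit.app _, (EtCoh.pullPushAdj O.ι).left_triangle_components G⟩
  rw [IsZero.iff_id_eq_zero, ← cancel_mono ((EtCoh.pull O.ι).map (kernel.ι η)), ← cancel_mono ((EtCoh.pull O.ι).map η)]
  simp only [Category.id_comp, zero_comp, ← Functor.map_comp, kernel.condition, Functor.map_zero]

theorem supp_le (G : EtCoh.Ab X) {O O' : X.Opens} (h : O' ≤ O) :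
    kernel.ι ((EtCoh.pullPushAdj O.ι).unit.app G) ≫ (EtCoh.pullPushAdj O'.ι).unit.app G = 0 := by
  haveI := (EtCoh.pullPushAdj (X.homOfLE h)).left_adjoint_additive
  have hz : IsZero ((EtCoh.pull O'.ι).obj (supp G O)) :=
    (((EtCoh.pull (X.homOfLE h)).map_isZero (isZero_pull_supp G O))).of_iso
      (((EtCore.pullCongr (X.homOfLE_ι h).symm) ≪≫ EtCore.pullComp (X.homOfLE h) O.ι).app (supp G O))
  exact ((EtCoh.pullPushAdj O'.ι).homEquiv (supp G O) ((EtCoh.pull O'.ι).obj G)).symm.injective (hz.eq_of_src _ _)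

/-- A section vanishing over an open is supported outside it. -/
theorem unit_eq_zero (G : EtCoh.Ab X) (O : X.Opens) (U : X.Etale) (s : G.obj.obj (op U))
    (hs : ∀ x : U.left, U.hom.base x ∈ O → x ∈ nullLocus G U s) :
    ((EtCoh.pullPushAdj O.ι).unit.app G).hom.app (op U) s = 0 := by
  let η := (EtCoh.pullPushAdj O.ι).unit.app G
  let V := restrictEtale U (U.hom ⁻¹ᵁ O)
  let r : V ⟶ U := restrictEtaleHom U (U.hom ⁻¹ᵁ O)
  have h0 : G.obj.map r.op s = 0 := eq_zero_of_nullLocus fun v => by
    obtain ⟨W, g, z, hz, hg⟩ := hs (r.left.base v) v.2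
    obtain ⟨P, p₁, p₂, hp, hv⟩ : ∃ (P : X.Etale) (p₁ : P ⟶ V) (p₂ : P ⟶ W), p₁ ≫ r = p₂ ≫ g ∧
        v ∈ Set.range p₁.left.base := by
      refine ⟨pullback r g, pullback.fst r g, pullback.snd r g, pullback.condition, ?_⟩
      let e : (pullback r g).left ≅ pullback r.left g.left :=
        haveI : PreservesLimitsOfShape WalkingCospan (Scheme.Etale.forget X ⋙ CategoryTheory.Over.forget X) :=
          comp_preservesLimitsOfShape _ _
        PreservesPullback.iso (Scheme.Etale.forget X ⋙ CategoryTheory.Over.forget X) r g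
      obtain ⟨p, hp1, -⟩ := Scheme.Pullback.exists_preimage_pullback (f := r.left) (g := g.left) v z hz.symm
      refine ⟨e.inv.base p, ?_⟩
      rw [← hp1, ← Scheme.Hom.comp_apply]
      exact congrArg (fun t : pullback r.left g.left ⟶ V.left => t.base p)
        (PreservesPullback.iso_inv_fst (Scheme.Etale.forget X ⋙ CategoryTheory.Over.forget X) r g)
    obtain ⟨q, hq⟩ := hv
    refine ⟨P, p₁, q, hq, ?_⟩
    rw [← ConcreteCategory.comp_apply, ← Functor.map_comp, ← op_comp, hp, op_comp, Functor.map_comp,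
      ConcreteCategory.comp_apply, hg, map_zero]
  haveI : IsIso ((EtCoh.bc O.ι).map r) := by
    haveI : IsIso ((EtCoh.bc O.ι).map r).left := by
      have h := EtCoh.isPullback_bc_map O.ι r
      haveI : IsOpenImmersion r.left := inferInstanceAs (IsOpenImmersion (U.hom ⁻¹ᵁ O).ι)
      haveI : IsOpenImmersion ((EtCoh.bc O.ι).map r).left := MorphismProperty.of_isPullback h.flip ‹_›
      haveI : Surjective ((EtCoh.bc O.ι).map r).left := ⟨fun p => by
        have hm : (bcFst O.ι U).base p ∈ U.hom ⁻¹ᵁ O := by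
          show U.hom.base _ ∈ (O : Set X)
          refine Set.mem_of_eq_of_mem ((Scheme.Hom.comp_apply _ _ p).symm.trans
            ((congrArg (fun t => t.base p) (bcFst_w O.ι U)).trans (Scheme.Hom.comp_apply _ _ p))) ?_
          exact (((EtCoh.bc O.ι).obj U).hom.base p).2
        obtain ⟨p', h1, -⟩ := exists_point_of_isPullback h.flip ⟨_, hm⟩ p rfl
        obtain ⟨p'', h2, h3⟩ := exists_point_of_isPullback h p ⟨_, hm⟩ rfl
        exact ⟨p'', h2⟩⟩
      haveI : Epi ((EtCoh.bc O.ι).map r).left.base :=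
        (TopCat.epi_iff_surjective _).2 ((EtCoh.bc O.ι).map r).left.surjective
      exact IsOpenImmersion.isIso _
    exact (isIso_iff_of_reflects_iso ((EtCoh.bc O.ι).map r) (Scheme.Etale.forget O.toScheme ⋙ CategoryTheory.Over.forget O.toScheme)).1 ‹_›
  refine ((ConcreteCategory.isIso_iff_bijective (((EtCoh.pull O.ι).obj G).obj.map ((EtCoh.bc O.ι).map r).op)).1
    inferInstance).1 ?_
  rw [map_zero]
  exact (NatTrans.naturality_apply η.hom r.op s).symm.trans ((congrArg _ h0).trans (map_zero _))

variable (G : EtCoh.Ab X)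

/-- The system of the subsheaves supported outside dense opens. -/
def suppSys : AsSmall.{u + 1} (DenseOpen X)ᵒᵈ ⥤ EtCoh.Ab X where
  obj O := supp G (OrderDual.ofDual (ULift.down O)).1
  map {O O'} h := kernel.lift _ (kernel.ι _) (supp_le G (leOfHom h.down))
  map_id O := by
    rw [← cancel_mono (kernel.ι _), kernel.lift_ι, Category.id_comp]
  map_comp h h' := by
    rw [← cancel_mono (kernel.ι _)]
    simp

/-- The inclusion of the system in the sheaf. -/
def suppCocone : Cocone (suppSys G) where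
  pt := G
  ι := { app := fun O => kernel.ι _, naturality := fun O O' h => by simp [suppSys] }

instance : IsDirected (DenseOpen X)ᵒᵈ (· ≤ ·) :=
  ⟨fun a b => ⟨OrderDual.toDual ⟨(OrderDual.ofDual a).1 ⊓ (OrderDual.ofDual b).1,
    fun η hη => ⟨(OrderDual.ofDual a).2 hη, (OrderDual.ofDual b).2 hη⟩⟩, show (OrderDual.ofDual a).1 ⊓ (OrderDual.ofDual b).1 ≤ (OrderDual.ofDual a).1 from inf_le_left,
      show (OrderDual.ofDual a).1 ⊓ (OrderDual.ofDual b).1 ≤ (OrderDual.ofDual b).1 from inf_le_right⟩⟩

instance : Nonempty (DenseOpen X)ᵒᵈ := ⟨OrderDual.toDual ⟨⊤, fun _ _ => trivial⟩⟩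

theorem isIso_suppDesc [IsNoetherian X] (hG : ZeroGeneric G) :
    IsIso (colimit.desc (suppSys G) (suppCocone G)) := by
  haveI : IsFiltered (AsSmall.{u + 1} (DenseOpen X)ᵒᵈ) := IsFiltered.of_equivalence AsSmall.equiv
  refine EtLim8.isIso_of_bijective_qcqs _ fun U hU => ?_
  haveI := preservesColimitsOfShape_sections_qcqs_ab U hU (AsSmall.{u + 1} (DenseOpen X)ᵒᵈ)
  let Γ := sheafToPresheaf X.smallEtaleTopology AddCommGrpCat.{u + 1} ⋙
    (evaluation X.Etaleᵒᵖ AddCommGrpCat.{u + 1}).obj (op U)
  let hc := isColimitOfPreserves Γ (colimit.isColimit (suppSys G))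
  have hι : ∀ O (t : Γ.obj ((suppSys G).obj O)),
      Γ.map (colimit.desc (suppSys G) (suppCocone G)) (Γ.map (colimit.ι (suppSys G) O) t) =
        Γ.map ((suppCocone G).ι.app O) t := fun O t => by
    rw [← ConcreteCategory.comp_apply, ← Functor.map_comp, colimit.ι_desc]
    rfl
  refine ⟨(injective_iff_map_eq_zero _).2 fun a ha => ?_, fun s => ?_⟩
  · obtain ⟨O, t, rfl⟩ := Concrete.isColimit_exists_rep _ hc a
    have ht : Γ.map ((suppCocone G).ι.app O) t = 0 := (hι O t).symm.trans ha
    haveI : Mono ((suppCocone G).ι.app O) := inferInstanceAs (Mono (kernel.ι _))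
    have ht0 : t = 0 := SiteBase.sheaf_app_injective ((suppCocone G).ι.app O) U (ht.trans (map_zero _).symm)
    exact (congrArg _ ht0).trans (map_zero _)
  · obtain ⟨O, hO⟩ := exists_denseOpen hG U hU s
    let η := (EtCoh.pullPushAdj O.1.ι).unit.app G
    obtain ⟨t, ht⟩ := SiteBase.exists_kernel_section
      (ShortComplex.mk (0 : G ⟶ G) η zero_comp) U s (unit_eq_zero G O.1 U s hO)
    exact ⟨Γ.map (colimit.ι (suppSys G) ⟨OrderDual.toDual O⟩) t, (hι _ t).trans ht⟩

/-- A sheaf vanishing at the generic points is built from sheaves on nowhere dense closed subschemes. -/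
theorem subsingleton_H_of_zeroGeneric [IsNoetherian X] (hG : ZeroGeneric G) (n : ℕ)
    (h : ∀ (O : X.Opens), genericPoints X ⊆ (O : Set X) →
      Subsingleton (EtCoh.H (EtCdp5.cIdeal O).subscheme
        ((EtCoh.pull (EtCdp5.cIdeal O).subschemeι).obj (supp G O)) n)) :
    Subsingleton (EtCoh.H X G n) := by
  haveI : IsFiltered (AsSmall.{u + 1} (DenseOpen X)ᵒᵈ) := IsFiltered.of_equivalence AsSmall.equiv
  haveI := isIso_suppDesc G hG
  let hc : IsColimit (suppCocone G) := IsColimit.ofPointIso (colimit.isColimit _) (i := ‹_›)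
  refine subsingleton_of_forall_eq 0 fun x => ?_
  obtain ⟨O, z, hz⟩ := AcycFin.exists_stage X n (suppCocone G) hc x
  let O' := (OrderDual.ofDual (ULift.down O)).1
  haveI := EtFound.jCont O'.ι
  haveI := (EtCoh.pullPushAdj O'.ι).left_adjoint_additive
  haveI : PreservesFiniteLimits (EtShriek.extZero O'.ι) := EtFound.extZero_preservesFiniteLimits _
  haveI : (EtShriek.extZero O'.ι).Additive := Functor.additive_of_preserves_binary_products _
  have hs : Subsingleton (EtCoh.H X (supp G O') n) :=
    EtCdp5.subsingleton_of_open_closed O'.ι (EtCdp5.cIdeal O').subschemeι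
      (by rw [EtCdp5.range_cι, compl_compl, Scheme.Opens.range_ι]) _ n
      (EtCdp5.subsingleton_H_of_isZero ((EtShriek.extZero O'.ι).map_isZero (isZero_pull_supp G O')) n)
      (h O' (OrderDual.ofDual (ULift.down O)).2)
  rw [← hz, show z = 0 from hs.elim z 0]
  exact Ext.zero_comp _ _ _ _ _

end Groth.Agent.QSheaf5
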