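import Groth.Agent.QSheaf5.Generic
import Groth.Agent.QSheaf5.Support
import Groth.Agent.EtFound.UnivInjPush
import Groth.Agent.DimLift.Basic
import Groth.Agent.H23.RedSub
import Groth.Agent.EtFound.StalkSet

/-!
# Uniquely divisible sheaves have cohomological dimension at most the dimension
-/

set_option autoImplicit false
set_option linter.unusedSectionVars false
set_option linter.style.haveILetI false
set_option backward.isDefEq.respectTransparency false
set_option backward.isDefEq.respectTransparency.types false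

universe u

open CategoryTheory CategoryTheory.Limits AlgebraicGeometry Opposite Abelian

noncomputable section

namespace Groth.Agent.QSheaf5

open EtFound

attribute [local instance] EtFound.pull_preservesFiniteLimits

section order

attribute [local instance] specializationOrder
attribute [-instance] Subtype.preorder Subtype.partialOrder

/-- Closed subsets missing the generic points have smaller dimension. -/
theorem exists_longer {X : Type u} [TopologicalSpace X] [QuasiSober X] [T0Space X] {Z : Set X} (hZ : IsClosed Z)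
    (hg : ∀ η ∈ genericPoints X, η ∉ Z) (l : LTSeries Z) : ∃ L : LTSeries X, L.length = l.length + 1 := by
  haveI : QuasiSober Z := hZ.isClosedEmbedding_subtypeVal.quasiSober
  let x : X := l.last.1
  obtain ⟨η, hη, hx⟩ : ∃ η ∈ genericPoints X, η ⤳ x := by
    let c : irreducibleComponents X := ⟨_, irreducibleComponent_mem_irreducibleComponents x⟩
    exact ⟨_, (genericPoints.ofComponent c).2,
      (genericPoints.isGenericPoint_ofComponent c).specializes mem_irreducibleComponent⟩
  let L₀ : LTSeries X := LTSeries.mk l.length (fun i => (l i).1) fun i j hij =>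
    DimLift.lt_iff_specializes.2 ⟨(subtype_specializes_iff (l j) (l i)).1 (DimLift.lt_iff_specializes.1 (l.strictMono hij)).1,
      fun e => (DimLift.lt_iff_specializes.1 (l.strictMono hij)).2 (Subtype.ext e)⟩
  refine ⟨RelSeries.snoc L₀ η (DimLift.lt_iff_specializes.2 ⟨hx, fun e => hg η hη ?_⟩), rfl⟩
  have e' : x = η := e
  exact e' ▸ l.last.2

theorem dim_lt_of_exists_longer {X : Type u} [TopologicalSpace X] [QuasiSober X] [T0Space X] {Z : Set X} (hZ : IsClosed Z)
    (hg : ∀ η ∈ genericPoints X, η ∉ Z) {d : ℕ}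
    (h : ∀ L : LTSeries X, L.length ≤ d) : ∀ l : LTSeries Z, l.length + 1 ≤ d := fun l => by
  obtain ⟨L, hL⟩ := exists_longer hZ hg l
  exact hL ▸ h L

theorem bound_of_dim {X : Type u} [TopologicalSpace X] [QuasiSober X] [T0Space X] {d : ℕ}
    (h : topologicalKrullDim X < ((d + 1 : ℕ) : WithBot ℕ∞)) (L : LTSeries X) : L.length < d + 1 := by
  rw [DimLift.topologicalKrullDim_eq_points] at h
  exact ENat.coe_lt_coe.1 (WithBot.coe_lt_coe.1 (lt_of_le_of_lt (Order.LTSeries.length_le_krullDim L) h))

theorem dim_lt_of_bound {X : Type u} [TopologicalSpace X] [QuasiSober X] [T0Space X] {d : ℕ}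
    (h : ∀ L : LTSeries X, L.length < d) : topologicalKrullDim X < ((d : ℕ) : WithBot ℕ∞) := by
  rw [DimLift.topologicalKrullDim_eq_points]
  rcases isEmpty_or_nonempty X with hX | ⟨⟨x⟩⟩
  · rw [Order.krullDim_eq_bot]
    exact WithBot.bot_lt_coe _
  · have h0 := h (RelSeries.singleton _ x)
    obtain ⟨d', rfl⟩ : ∃ d', d = d' + 1 := ⟨d - 1, by simp at h0; omega⟩
    refine lt_of_le_of_lt (b := ((d' : ℕ) : WithBot ℕ∞)) (iSup_le fun L => ?_)
      (WithBot.coe_lt_coe.2 (ENat.coe_lt_coe.2 (Nat.lt_succ_self d')))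
    exact WithBot.coe_le_coe.2 (ENat.coe_le_coe.2 (Nat.le_of_lt_succ (h L)))

end order

variable {X : Scheme.{u}}

theorem isQ_kernel {F G : EtCoh.Ab X} (φ : F ⟶ G) (hF : IsQ F) (hG : IsQ G) : IsQ (kernel φ) := by
  intro m hm
  haveI := hF m hm
  haveI := hG m hm
  have e : φ ≫ (m • 𝟙 G) = (m • 𝟙 F) ≫ φ := by simp
  have h : m • 𝟙 (kernel φ) = kernel.map φ φ (m • 𝟙 F) (m • 𝟙 G) e := by
    rw [← cancel_mono (kernel.ι φ), kernel.lift_ι]
    simp
  rw [h]
  exact inferInstanceAs (IsIso (kernel.mapIso φ φ (asIso (m • 𝟙 F)) (asIso (m • 𝟙 G)) e).hom)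

theorem isQ_cokernel {F G : EtCoh.Ab X} (φ : F ⟶ G) (hF : IsQ F) (hG : IsQ G) : IsQ (cokernel φ) := by
  intro m hm
  haveI := hF m hm
  haveI := hG m hm
  have e : φ ≫ (m • 𝟙 G) = (m • 𝟙 F) ≫ φ := by simp
  have h : m • 𝟙 (cokernel φ) = cokernel.map φ φ (m • 𝟙 F) (m • 𝟙 G) e := by
    rw [← cancel_epi (cokernel.π φ), cokernel.π_desc]
    simp
  rw [h]
  exact inferInstanceAs (IsIso (cokernel.mapIso φ φ (asIso (m • 𝟙 F)) (asIso (m • 𝟙 G)) e).hom)

theorem isQ_supp {G : EtCoh.Ab X} (hG : IsQ G) (O : X.Opens) : IsQ (supp G O) := by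
  haveI := (EtCoh.pullPushAdj O.ι).left_adjoint_additive
  haveI := (EtCoh.pullPushAdj O.ι).right_adjoint_additive
  exact isQ_kernel _ hG (isQ_map (EtCoh.push O.ι) (isQ_map (EtCoh.pull O.ι) hG))

/-- An integral affine neighbourhood of a generic point. -/
theorem exists_integral_chart [IsNoetherian X] [IsReduced X] (η : X) (hη : η ∈ genericPoints X) :
    ∃ (A : Type u) (_ : CommRing A) (_ : IsDomain A) (j : Spec (CommRingCat.of A) ⟶ X) (_ : IsOpenImmersion j),
      ∀ (K : Type u) [Field K] [Algebra A K] [IsFractionRing A K] (x : Spec (CommRingCat.of K)),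
        (genPt j K).base x = η := by
  let R : Set X := ⋃ θ ∈ genericPoints X \ {η}, closure {θ}
  have hR : IsClosed R :=
    Set.Finite.isClosed_biUnion
      ((genericPoints.finite (TopologicalSpace.NoetherianSpace.finite_irreducibleComponents)).subset Set.sdiff_subset)
      fun _ _ => isClosed_closure
  have hηR : η ∈ Rᶜ := fun h => by
    obtain ⟨θ, ⟨hθ, hne⟩, h'⟩ := Set.mem_iUnion₂.1 h
    have hs : θ ⤳ η := specializes_iff_mem_closure.2 h'
    have : closure ({η} : Set X) = closure {θ} :=
      subset_antisymm (specializes_iff_closure_subset.1 hs)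
        (hη.2 isIrreducible_singleton.closure (specializes_iff_closure_subset.1 hs))
    exact hne (Inseparable.eq (inseparable_iff_closure_eq.2 this.symm))
  obtain ⟨V, hV, hηV, hVR⟩ :=
    exists_isAffineOpen_mem_and_subset (X := X) (x := η) (U := ⟨Rᶜ, hR.isOpen_compl⟩) hηR
  have hgen : ∀ x ∈ V, η ⤳ x := fun x hx => by
    let c : irreducibleComponents X := ⟨_, irreducibleComponent_mem_irreducibleComponents x⟩
    have hs : (genericPoints.ofComponent c).1 ⤳ x :=
      (genericPoints.isGenericPoint_ofComponent c).specializes mem_irreducibleComponent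
    by_cases h : (genericPoints.ofComponent c).1 = η
    · rwa [h] at hs
    · exact absurd (Set.mem_iUnion₂.2 ⟨_, ⟨(genericPoints.ofComponent c).2, h⟩, specializes_iff_mem_closure.1 hs⟩)
        (hVR hx)
  haveI : Nonempty V.toScheme := ⟨⟨η, hηV⟩⟩
  haveI : IrreducibleSpace V.toScheme := by
    refine (irreducibleSpace_def _).2 ?_
    have : (Set.univ : Set V.toScheme) = closure {(⟨η, hηV⟩ : V.toScheme)} :=
      (Set.eq_univ_of_forall fun x => specializes_iff_mem_closure.1
        ((V.ι.isOpenEmbedding.isInducing.specializes_iff (x := (⟨η, hηV⟩ : V.toScheme)) (y := x)).1 (hgen x.1 x.2))).symm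
    rw [show (⊤ : Set V.toScheme) = closure _ from this]
    exact isIrreducible_singleton.closure
  haveI : IsReduced V.toScheme := isReduced_of_isOpenImmersion V.ι
  haveI : IsIntegral V.toScheme := isIntegral_of_irreducibleSpace_of_isReduced _
  haveI : IsDomain Γ(X, V) := V.topIso.commRingCatIsoToRingEquiv.toMulEquiv.isDomain_iff.1 inferInstance
  refine ⟨Γ(X, V), inferInstance, inferInstance, hV.fromSpec, inferInstance, fun K _ _ _ x => ?_⟩
  obtain ⟨q, hq⟩ : η ∈ Set.range hV.fromSpec.base := hV.range_fromSpec.symm ▸ hηV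
  let p := (Spec.map (CommRingCat.ofHom (algebraMap Γ(X, V) K))).base x
  have hp : p ⤳ q := by
    refine (PrimeSpectrum.le_iff_specializes p q).1 ?_
    intro a ha
    have h0 : algebraMap Γ(X, V) K a ∈ x.asIdeal := ha
    rw [(Ideal.eq_bot_or_top x.asIdeal).resolve_right x.isPrime.ne_top, Ideal.mem_bot] at h0
    rw [(map_eq_zero_iff _ (IsFractionRing.injective Γ(X, V) K)).1 h0]
    exact zero_mem _
  have hs : (genPt hV.fromSpec K).base x ⤳ η := by
    rw [← hq, Scheme.Hom.comp_apply]
    exact hp.map hV.fromSpec.base.hom.continuous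
  exact (hs.antisymm (hgen _ (hV.range_fromSpec.subset ⟨p, (Scheme.Hom.comp_apply _ _ x).symm⟩))).eq

theorem isIso_stalk_unit_genPt {A : Type u} [CommRing A] [IsDomain A] (j : Spec (CommRingCat.of A) ⟶ X)
    [IsOpenImmersion j] (K : Type u) [Field K] [Algebra A K] [IsFractionRing A K] (F : EtCoh.Ab X)
    {Ω : Type u} [Field Ω] [IsSepClosed Ω] (ξ : Spec (CommRingCat.of Ω) ⟶ X)
    (hξ : ξ.base (default : Spec (CommRingCat.of Ω)) ∈ Set.range (genPt j K).base) :
    IsIso ((EtCoh.stalk ξ).map ((EtCoh.pullPushAdj (genPt j K)).unit.app F)) := by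
  refine isIso_stalk_of_lift (genPt j K) _ ξ hξ fun k _ _ z => ?_
  refine (NatIso.isIso_map_iff (sheafFiberPullIso (A := AddCommGrpCat.{u + 1}) (genPt j K) z) _).1 ?_
  have := isIso_counit_genPt j K ((EtCoh.pull (genPt j K)).obj F)
  have : IsIso ((EtCoh.pull (genPt j K)).map ((EtCoh.pullPushAdj (genPt j K)).unit.app F)) :=
    @IsIso.of_isIso_fac_right _ _ _ _ _ _ _ _ this (IsIso.id _) ((EtCoh.pullPushAdj (genPt j K)).left_triangle_components F)
  exact inferInstanceAs (IsIso ((EtCoh.stalk z).map ((EtCoh.pull (genPt j K)).map ((EtCoh.pullPushAdj (genPt j K)).unit.app F))))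

/-- The induction step on a reduced scheme. -/
theorem step_reduced [IsNoetherian X] [IsReduced X] {d : ℕ}
    (hdim : topologicalKrullDim X < ((d + 1 : ℕ) : WithBot ℕ∞))
    (ih : ∀ (Z : Scheme.{u}) [IsNoetherian Z], topologicalKrullDim Z < ((d : ℕ) : WithBot ℕ∞) →
      ∀ (F : EtCoh.Ab Z), IsQ F → ∀ i, d ≤ i → Subsingleton (EtCoh.H Z F i))
    (F : EtCoh.Ab X) (hF : IsQ F) (i : ℕ) (hi : d ≤ i) : Subsingleton (EtCoh.H X F (i + 1)) := by
  classical
  choose A _ _ j _ hj using exists_integral_chart (X := X)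
  let I := genericPoints X
  haveI : Finite I := Set.Finite.to_subtype
    (genericPoints.finite (TopologicalSpace.NoetherianSpace.finite_irreducibleComponents))
  let K : I → Type u := fun η => FractionRing (A η.1 η.2)
  let g : ∀ η : I, Spec (CommRingCat.of (K η)) ⟶ X := fun η => genPt (j η.1 η.2) (K η)
  let M : I → EtCoh.Ab X := fun η => (EtCoh.push (g η)).obj ((EtCoh.pull (g η)).obj F)
  haveI : ∀ η : I, QuasiCompact (g η) := fun η => quasiCompact_of_compactSpace _
  have hMQ : ∀ η, IsQ (M η) := fun η => by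
    haveI := (EtCoh.pullPushAdj (g η)).left_adjoint_additive
    haveI := (EtCoh.pullPushAdj (g η)).right_adjoint_additive
    exact isQ_map (EtCoh.push (g η)) (isQ_map (EtCoh.pull (g η)) hF)
  let φ : F ⟶ ∏ᶜ M := Pi.lift fun η => (EtCoh.pullPushAdj (g η)).unit.app F
  have hPQ : IsQ (∏ᶜ M) := fun m hm => by
    haveI : ∀ η, IsIso (m • 𝟙 (M η)) := fun η => hMQ η m hm
    have e : m • 𝟙 (∏ᶜ M) = (Pi.mapIso fun η => asIso (m • 𝟙 (M η))).hom := by
      refine Limits.Pi.hom_ext _ _ fun η => ?_
      simp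
    rw [e]
    infer_instance
  -- vanishing at the generic points
  have hstalk : ∀ (Ω : Type u) [Field Ω] [IsSepClosed Ω] (ξ : Spec (CommRingCat.of Ω) ⟶ X),
      ξ.base (default : Spec (CommRingCat.of Ω)) ∈ genericPoints X → IsIso ((EtCoh.stalk ξ).map φ) := by
    intro Ω _ _ ξ hξ
    let c : I := ⟨_, hξ⟩
    haveI : (EtCoh.stalk ξ).Additive := Functor.additive_of_preserves_binary_products _
    let T := EtCoh.stalk ξ
    have h0 : ∀ e, e ≠ c → IsZero (T.obj (M e)) := fun e he => by
      obtain ⟨h⟩ := nonempty_unique_stalk (A := AddCommGrpCat.{u + 1}) (isClosed_closure (s := ({e.1} : Set X))) (M e)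
        (fun V hV => push_unique_of_disjoint (g e) _ V (hV.mono_right (by
          rintro _ ⟨x, rfl⟩
          exact subset_closure (hj e.1 e.2 (K e) x)))) ξ (fun hc => he (Subtype.ext (by
            have hs : e.1 ⤳ c.1 := specializes_iff_mem_closure.2 hc
            exact (hs.antisymm (specializes_iff_mem_closure.2
              (hξ.2 isIrreducible_singleton.closure (specializes_iff_closure_subset.1 hs)
                (subset_closure (Set.mem_singleton _))))).eq)))
      exact @AddCommGrpCat.isZero_of_subsingleton _ ⟨fun a b => (h.eq_default a).trans (h.eq_default b).symm⟩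
    haveI : IsIso (T.map (Pi.π M c)) := by
      haveI : PreservesFiniteProducts T := inferInstance
      let hl : IsLimit (T.mapCone (limit.cone (Discrete.functor M))) := isLimitOfPreserves T (limit.isLimit _)
      let s : Cone (Discrete.functor M ⋙ T) :=
        ⟨T.obj (M c), Discrete.natTrans fun e => if h : e.as = c then eqToHom (by rw [← h]; rfl) else 0⟩
      refine ⟨hl.lift s, hl.hom_ext fun ⟨e⟩ => ?_, ?_⟩
      · rw [Category.assoc, hl.fac, Category.id_comp]
        by_cases h : e = c
        · subst h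
          show T.map (Pi.π M c) ≫ dite _ _ _ = _
          rw [dif_pos rfl]
          exact Category.comp_id _
        · exact (h0 e h).eq_of_tgt _ _
      · refine (hl.fac s ⟨c⟩).trans ?_
        show dite _ _ _ = _
        rw [dif_pos rfl]
        rfl
    haveI : IsIso (T.map φ ≫ T.map (Pi.π M c)) := by
      rw [← T.map_comp, Pi.lift_π]
      exact isIso_stalk_unit_genPt (j c.1 c.2) (K c) F ξ ⟨default, hj c.1 c.2 (K c) default⟩
    exact IsIso.of_isIso_comp_right (T.map φ) (T.map (Pi.π M c))
  have hzero : ∀ (C : EtCoh.Ab X), IsQ C → ZeroGeneric C → ∀ n, d ≤ n → Subsingleton (EtCoh.H X C n) := by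
    intro C hC hz n hn
    refine subsingleton_H_of_zeroGeneric C hz n fun O hO => ?_
    let i := (EtCdp5.cIdeal O).subschemeι
    haveI : IsLocallyNoetherian (EtCdp5.cIdeal O).subscheme := LocallyOfFiniteType.isLocallyNoetherian i
    haveI : CompactSpace (EtCdp5.cIdeal O).subscheme := QuasiCompact.compactSpace_of_compactSpace i
    haveI : IsNoetherian (EtCdp5.cIdeal O).subscheme := {}
    haveI := (EtCoh.pullPushAdj i).left_adjoint_additive
    refine ih _ ?_ _ (isQ_map (EtCoh.pull i) (isQ_supp hC O)) n hn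
    rw [i.isEmbedding.toHomeomorph.isHomeomorph.topologicalKrullDim_eq]
    haveI : QuasiSober (Set.range i.base) := i.isClosedEmbedding.isClosed_range.isClosedEmbedding_subtypeVal.quasiSober
    refine dim_lt_of_bound fun l => ?_
    refine dim_lt_of_exists_longer i.isClosedEmbedding.isClosed_range (fun η hη hc => ?_)
      (fun L => Nat.le_of_lt_succ (bound_of_dim hdim L)) l
    rw [EtCdp5.range_cι] at hc
    exact hc (hO hη)
  have hK : Subsingleton (EtCoh.H X (kernel φ) (i + 1)) := hzero _ (isQ_kernel φ hF hPQ)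
    (fun Ω _ _ ξ hξ => by
      haveI := hstalk Ω ξ hξ
      haveI : PreservesFiniteLimits (EtCoh.stalk ξ) := inferInstance
      exact (isZero_kernel_of_mono ((EtCoh.stalk ξ).map φ)).of_iso (PreservesKernel.iso (EtCoh.stalk ξ) φ)) _ (by omega)
  have hC : Subsingleton (EtCoh.H X (cokernel φ) i) := hzero _ (isQ_cokernel φ hF hPQ)
    (fun Ω _ _ ξ hξ => by
      haveI := hstalk Ω ξ hξ
      exact (isZero_cokernel_of_epi ((EtCoh.stalk ξ).map φ)).of_iso (PreservesCokernel.iso (EtCoh.stalk ξ) φ)) _ hi
  have hM : Subsingleton (EtCoh.H X (∏ᶜ M) (i + 1)) := by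
    haveI : (EtCoh.HF X (i + 1)).Additive := DCoh.additive_HF X _
    haveI : PreservesFiniteProducts (EtCoh.HF X (i + 1)) := inferInstance
    refine AddCommGrpCat.subsingleton_of_isZero (G := (EtCoh.HF X (i + 1)).obj (∏ᶜ M)) ?_
    refine IsZero.of_iso ?_ (PreservesProduct.iso (EtCoh.HF X (i + 1)) M)
    rw [IsZero.iff_id_eq_zero]
    refine Limits.Pi.hom_ext _ _ fun η => IsZero.eq_of_tgt ?_ _ _
    exact @AddCommGrpCat.isZero_of_subsingleton ((EtCoh.HF X (i + 1)).obj (M η)) (subsingleton_H_push (g η) _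
      (acyc_field (K η) _ (by
        haveI := (EtCoh.pullPushAdj (g η)).left_adjoint_additive
        exact isQ_map (EtCoh.pull (g η)) hF)) _
      (subsingleton_H_field (K η) _ (by
        haveI := (EtCoh.pullPushAdj (g η)).left_adjoint_additive
        exact isQ_map (EtCoh.pull (g η)) hF) i))
  refine GalCd5.subsingleton_H_of_shortExact (S := ShortComplex.mk (kernel.ι φ) (Abelian.factorThruImage φ)
    (by rw [← cancel_mono (Abelian.image.ι φ)]; simp)) ?_ (i + 1) hK ?_
  · refine { exact := ?_ }
    refine ShortComplex.exact_of_f_is_kernel _ (KernelFork.IsLimit.ofι' _ _ fun {Z} k hk => ?_)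
    refine ⟨kernel.lift φ k ?_, kernel.lift_ι _ _ _⟩
    rw [← Abelian.image.fac φ, ← Category.assoc, hk, zero_comp]
  · have hS : (ShortComplex.mk (Abelian.image.ι φ) (cokernel.π φ) (kernel.condition _)).ShortExact :=
      { exact := ShortComplex.exact_of_f_is_kernel _ (kernelIsKernel (cokernel.π φ)) }
    refine subsingleton_of_forall_eq 0 fun z => ?_
    obtain ⟨w, rfl⟩ := Ext.covariant_sequence_exact₁ _ hS z (hM.elim _ _) rfl
    rw [hC.elim w 0]
    exact Ext.zero_comp _ _ _ _ _

/-- Uniquely divisible sheaves have no cohomology in degrees at least a strict bound of the dimension. -/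
theorem main : ∀ (d : ℕ) (X : Scheme.{u}) [IsNoetherian X], topologicalKrullDim X < ((d : ℕ) : WithBot ℕ∞) →
    ∀ (F : EtCoh.Ab X), IsQ F → ∀ i, d ≤ i → Subsingleton (EtCoh.H X F i) := by
  intro d
  induction d with
  | zero =>
    intro X _ h F _ i _
    haveI : IsEmpty X := by
      by_contra hne
      rw [not_isEmpty_iff] at hne
      obtain ⟨x⟩ := hne
      haveI : Nonempty (TopologicalSpace.IrreducibleCloseds X) :=
        ⟨⟨closure {x}, isIrreducible_singleton.closure, isClosed_closure⟩⟩
      exact absurd h (not_lt.2 (Order.krullDim_nonneg (α := TopologicalSpace.IrreducibleCloseds X)))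
    exact EtCdp5.subsingleton_H_of_isZero (EtCdp5.isZero_of_isEmpty F) i
  | succ d ih =>
    intro X _ h F hF i hi
    obtain ⟨i, rfl⟩ : ∃ i', i = i' + 1 := ⟨i - 1, by omega⟩
    let r := (EtCdp5.cIdeal (⊥ : X.Opens)).subschemeι
    haveI : IsReduced (EtCdp5.cIdeal (⊥ : X.Opens)).subscheme := H23.RedSub.isReduced_vanishingIdeal _
    haveI : IsLocallyNoetherian (EtCdp5.cIdeal (⊥ : X.Opens)).subscheme := LocallyOfFiniteType.isLocallyNoetherian r
    haveI : CompactSpace (EtCdp5.cIdeal (⊥ : X.Opens)).subscheme := QuasiCompact.compactSpace_of_compactSpace r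
    haveI : IsNoetherian (EtCdp5.cIdeal (⊥ : X.Opens)).subscheme := {}
    haveI : Surjective r := ⟨fun x => by
      have hx : x ∈ Set.range r.base := by
        rw [EtCdp5.range_cι]
        exact fun hx => hx.elim
      exact hx⟩
    haveI := EtFound.unit_isIso_of_surjective r F
    haveI := (EtCoh.pullPushAdj r).left_adjoint_additive
    refine GalCd5.subsingleton_H_of_iso (asIso ((EtCoh.pullPushAdj r).unit.app F)).symm _ ?_
    exact (GalCd5.subsingleton_H_push_iff r _ _).2 (step_reduced
      (lt_of_le_of_lt r.isEmbedding.isInducing.topologicalKrullDim_le h) ih _ (isQ_map (EtCoh.pull r) hF) i (by omega))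

end Groth.Agent.QSheaf5
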